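import Cfsg.Agent.H90.SylowBasic
import Cfsg.Agent.H20.Sylow
import Cfsg.Agent.H21.Complement

set_option autoImplicit false
open Pointwise

namespace Cfsg.Agent.H90

variable {G : Type*} [Group G] [Finite G]

/-- If `M = X * (A ⊓ M)` then `A` has the same index in `X` and in `M`. -/
theorem relIndex_eq_of_factor {A X M : Subgroup G} (hX : X ≤ M)
    (h : ∀ m ∈ M, ∃ x ∈ X, x⁻¹ * m ∈ A) : A.relIndex X = A.relIndex M := by
  refine Nat.card_eq_of_bijective
    (Subgroup.quotientSubgroupOfEmbeddingOfLE A hX : (X ⧸ A.subgroupOf X) → M ⧸ A.subgroupOf M)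
    ⟨(Subgroup.quotientSubgroupOfEmbeddingOfLE A hX).injective, fun q => ?_⟩
  obtain ⟨⟨m, hm⟩, rfl⟩ := QuotientGroup.mk_surjective q
  obtain ⟨x, hx, hxm⟩ := h m hm
  refine ⟨((⟨x, hx⟩ : X) : X ⧸ A.subgroupOf X), ?_⟩
  rw [Subgroup.quotientSubgroupOfEmbeddingOfLE_apply_mk, QuotientGroup.eq]
  exact hxm

variable {p : ℕ} [hp : Fact p.Prime]

/-- The number of Sylow subgroups as the index of the normalizer, with coercions as subgroups. -/
theorem card_sylow_eq_index (P : Sylow p G) :
    Nat.card (Sylow p G) = (Subgroup.normalizer ((P : Subgroup G) : Set G)).index := by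
  rw [Sylow.coe_coe]; exact P.card_eq_index_normalizer

/-- Prime parts of Sylow numbers in a group `L ⋊ P` with `L` of order prime to `p`. -/
theorem sylow_number_part_of_pPrime_normal (P : Sylow p G) (L : Subgroup G) [L.Normal]
    (hL : ¬ p ∣ Nat.card L) (hgen : L ⊔ (P : Subgroup G) = ⊤) (l : ℕ) (hl : l.Prime) :
    l ^ (Nat.card (Sylow p G)).factorization l ≡ 1 [MOD p] := by
  haveI := Fact.mk hl
  set C := L ⊓ Subgroup.centralizer ((P : Subgroup G) : Set G) with hC
  set N := Subgroup.normalizer ((P : Subgroup G) : Set G) with hN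
  have hdisj : ∀ x ∈ L, x ∈ (P : Subgroup G) → x = 1 := by
    intro x hx hxP
    obtain ⟨k, hk⟩ := IsPGroup.iff_orderOf.1 P.isPGroup' ⟨x, hxP⟩
    rw [Subgroup.orderOf_mk] at hk
    rcases k with _ | k
    · exact orderOf_eq_one_iff.1 hk
    · exact absurd ((dvd_pow_self p (Nat.succ_ne_zero k)).trans (hk ▸ L.orderOf_dvd_natCard hx)) hL
  have hNL : N.subgroupOf L = C.subgroupOf L := by
    ext ⟨x, hx⟩
    simp only [Subgroup.mem_subgroupOf, hC, Subgroup.mem_inf]
    refine ⟨fun hxN => ⟨hx, Subgroup.mem_centralizer_iff.2 fun y hy => ?_⟩,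
      fun h => Subgroup.centralizer_le_normalizer _ h.2⟩
    have h1 : x * y * x⁻¹ * y⁻¹ = 1 := by
      refine hdisj _ ?_ (mul_mem ((Subgroup.mem_normalizer_iff.1 hxN y).1 hy) (inv_mem hy))
      rw [show x * y * x⁻¹ * y⁻¹ = x * (y * x⁻¹ * y⁻¹) by group]
      exact mul_mem hx (Subgroup.Normal.conj_mem ‹L.Normal› _ (inv_mem hx) y)
    exact (commutatorElement_eq_one_iff_mul_comm.1 h1).symm
  have hn : Nat.card (Sylow p G) = C.relIndex L := by
    rw [card_sylow_eq_index P, ← hN, ← Subgroup.relIndex_top_right, Subgroup.relIndex, Subgroup.relIndex,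
      ← hNL]
    refine (relIndex_eq_of_factor (le_top (a := L)) fun m _ => ?_).symm
    obtain ⟨x, hx, y, hy, rfl⟩ := Subgroup.mem_sup_of_normal_left.1 (hgen ▸ Subgroup.mem_top m)
    exact ⟨x, hx, by rw [inv_mul_cancel_left]; exact Subgroup.le_normalizer hy⟩
  have hPC : (P : Subgroup G) ≤ Subgroup.normalizer (L : Set G) :=
    Cfsg.Agent.H21.le_normalizer_of_normal L _
  have hcop : (Nat.card P).Coprime (Nat.card L) := by
    obtain ⟨k, hk⟩ := IsPGroup.iff_card.1 P.isPGroup'
    rw [hk]
    exact Nat.Coprime.pow_left k (hp.out.coprime_iff_not_dvd.2 hL)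
  haveI : Group.IsNilpotent P := P.isPGroup'.isNilpotent
  obtain ⟨R⟩ := Sylow.nonempty (p := l) (G := C)
  set U := (R : Subgroup C).map C.subtype with hU
  have hUcard : Nat.card U = l ^ (Nat.card C).factorization l := by
    rw [hU, Subgroup.card_map_of_injective C.subtype_injective, R.card_eq_multiplicity]
  obtain ⟨S', hUS, hSn⟩ := Cfsg.Agent.H20.exists_invariant_sylow_ge hPC hcop
    (Or.inl inferInstance) l (Subgroup.map_subtype_le _ |>.trans inf_le_left : U ≤ L)
    (R.isPGroup'.map _) (by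
      refine le_trans ?_ (Subgroup.centralizer_le_normalizer _)
      intro y hy
      rw [Subgroup.mem_centralizer_iff]
      rintro u ⟨r, -, rfl⟩
      exact (Subgroup.mem_centralizer_iff.1 r.2.2 y hy).symm)
  set S := (S' : Subgroup L).map L.subtype with hS
  have hScard : Nat.card S = l ^ (Nat.card L).factorization l := by
    rw [hS, Subgroup.card_map_of_injective L.subtype_injective, S'.card_eq_multiplicity]
  -- fixed points of `P` on `S`
  let _ : MulDistribMulAction (P : Subgroup G) S :=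
    MulDistribMulAction.compHom S (Cfsg.Agent.H21.conjHom hSn)
  have hmod := P.isPGroup'.card_modEq_card_fixedPoints S
  have hfix : Nat.card (MulAction.fixedPoints (P : Subgroup G) S) =
      Nat.card (S ⊓ Subgroup.centralizer ((P : Subgroup G) : Set G) : Subgroup G) := by
    refine Nat.card_congr
      { toFun := fun s => ⟨s.1.1, s.1.2, Subgroup.mem_centralizer_iff.2 fun y hy => ?_⟩
        invFun := fun s => ⟨⟨s.1, s.2.1⟩, fun y => Subtype.ext ?_⟩
        left_inv := fun s => rfl
        right_inv := fun s => rfl }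
    · have h1 : y * (s.1 : G) * y⁻¹ = s.1 := congrArg Subtype.val (s.2 ⟨y, hy⟩)
      exact mul_inv_eq_iff_eq_mul.1 h1
    · change (y : G) * (s.1 : G) * (y : G)⁻¹ = s.1
      rw [Subgroup.mem_centralizer_iff.1 s.2.2 y y.2, mul_inv_cancel_right]
  have hCS : Nat.card (S ⊓ Subgroup.centralizer ((P : Subgroup G) : Set G) : Subgroup G) =
      l ^ (Nat.card C).factorization l := by
    have hle : S ⊓ Subgroup.centralizer ((P : Subgroup G) : Set G) ≤ C :=
      inf_le_inf_right _ (Subgroup.map_subtype_le _)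
    have hpg : IsPGroup l (S ⊓ Subgroup.centralizer ((P : Subgroup G) : Set G) : Subgroup G) :=
      ((S'.isPGroup'.map L.subtype).to_le inf_le_left)
    obtain ⟨a, ha⟩ := IsPGroup.iff_card.1 hpg
    refine le_antisymm ?_ ?_
    · rw [ha]
      refine Nat.pow_le_pow_right hl.pos ?_
      exact (hl.pow_dvd_iff_le_factorization Nat.card_pos.ne').1 (ha ▸ Subgroup.card_dvd_of_le hle)
    · rw [← hUcard]
      refine Nat.le_of_dvd Nat.card_pos (Subgroup.card_dvd_of_le (le_inf hUS ?_))
      rintro u ⟨r, -, rfl⟩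
      exact r.2.2
  rw [hfix, hCS, hScard] at hmod
  set fL := (Nat.card L).factorization l
  set fC := (Nat.card C).factorization l
  have hmul : C.relIndex L * Nat.card C = Nat.card L := by
    have := Subgroup.card_mul_index (C.subgroupOf L)
    rw [Nat.card_congr (Subgroup.subgroupOfEquivOfLe (inf_le_left : C ≤ L)).toEquiv] at this
    rw [Subgroup.relIndex, mul_comm]; exact this
  have hne : C.relIndex L ≠ 0 := Subgroup.index_ne_zero_of_finite
  have hf : (C.relIndex L).factorization l + fC = fL := by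
    have := congrArg Nat.factorization hmul
    rw [Nat.factorization_mul hne Nat.card_pos.ne'] at this
    exact congrArg (fun f => f l) this
  rw [hn]
  rw [← hf, pow_add] at hmod
  nth_rewrite 2 [← one_mul (l ^ fC)] at hmod
  refine Nat.ModEq.cancel_right_of_coprime ?_ hmod
  by_cases hlp : p = l
  · have hC0 : fC = 0 := Nat.factorization_eq_zero_of_not_dvd fun h =>
      hL (hlp ▸ h.trans (Subgroup.card_dvd_of_le inf_le_left))
    rw [hC0, pow_zero]
    exact Nat.coprime_one_right p
  · exact Nat.Coprime.pow_right _ ((Nat.coprime_primes hp.out hl).2 hlp)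

/-- The Sylow number formula over a normal subgroup. -/
theorem card_sylow_formula (K : Subgroup G) [hK : K.Normal] (P : Sylow p G) (N : Subgroup G)
    (hN : N = ((P : Subgroup G) ⊔ K) ⊓
      Subgroup.normalizer (((P : Subgroup G) ⊓ K : Subgroup G) : Set G))
    [hn : (((P : Subgroup G) ⊓ K).subgroupOf N).Normal] :
    Nat.card (Sylow p G) = Nat.card (Sylow p (G ⧸ K)) * Nat.card (Sylow p K) *
      Nat.card (Sylow p (N ⧸ ((P : Subgroup G) ⊓ K).subgroupOf N)) := by
  set Q := (P : Subgroup G) with hQ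
  set X := Q ⊔ K with hX
  set D := Q ⊓ K with hD
  set NP := Subgroup.normalizer (Q : Set G) with hNP
  set NX := Subgroup.normalizer (X : Set G) with hNX
  set ND := Subgroup.normalizer (D : Set G) with hND
  have hQX : Q ≤ X := le_sup_left
  have hKX : K ≤ X := le_sup_right
  have hP_ND : NP ≤ ND := fun x hx => Subgroup.mem_normalizer_iff.2 fun y => by
    have h1 := Subgroup.mem_normalizer_iff.1 hx y
    have h2 : y ∈ K ↔ x * y * x⁻¹ ∈ K := ⟨fun h => hK.conj_mem y h x, fun h => by
      simpa [mul_assoc] using hK.conj_mem _ h x⁻¹⟩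
    exact and_congr h1 h2
  have hQND : Q ≤ ND := Subgroup.le_normalizer.trans hP_ND
  have hPX : NP ≤ NX := fun x hx => Subgroup.mem_normalizer_iff.2 fun y => by
    have key : ∀ z ∈ NP, ∀ y ∈ X, z * y * z⁻¹ ∈ X := by
      intro z hz y hy
      obtain ⟨a, ha, b, hb, rfl⟩ := Subgroup.mem_sup_of_normal_right.1 hy
      rw [show z * (a * b) * z⁻¹ = (z * a * z⁻¹) * (z * b * z⁻¹) by group]
      exact Subgroup.mul_mem_sup ((Subgroup.mem_normalizer_iff.1 hz a).1 ha) (hK.conj_mem b hb z)
    exact ⟨key x hx y, fun h => by simpa [mul_assoc] using key x⁻¹ (inv_mem hx) _ h⟩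
  -- first factor
  have e1 : Nat.card (Sylow p (G ⧸ K)) = NX.index := by
    rw [card_sylow_eq_index (P.mapSurjective (QuotientGroup.mk'_surjective K)), hNX,
      ← Subgroup.index_comap_of_surjective _ (QuotientGroup.mk'_surjective K),
      Subgroup.comap_normalizer_eq_of_surjective _ (QuotientGroup.mk'_surjective K)]
    congr 3
    change (Q.map (QuotientGroup.mk' K)).comap (QuotientGroup.mk' K) = X
    rw [Subgroup.comap_map_eq, QuotientGroup.ker_mk']
  have hfrat : ∀ m ∈ NX, ∃ x ∈ X, x⁻¹ * m ∈ NP := by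
    intro m hm
    have hle : ((m • P : Sylow p G) : Subgroup G) ≤ X := by
      rintro _ ⟨y, hy, rfl⟩
      exact (Subgroup.mem_normalizer_iff.1 hm y).1 (hQX hy)
    obtain ⟨x, hx⟩ := MulAction.exists_smul_eq X (P.subtype hQX) ((m • P).subtype hle)
    rw [Sylow.smul_subtype] at hx
    have hx' : (x : G) • P = m • P := Sylow.subtype_injective hx
    refine ⟨x, x.2, ?_⟩
    rw [hNP, hQ, Sylow.coe_coe, ← Sylow.smul_eq_iff_mem_normalizer, mul_smul, ← hx', inv_smul_smul]
  have e2 : NP.index = NP.relIndex X * NX.index := by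
    rw [relIndex_eq_of_factor (Subgroup.le_normalizer : X ≤ NX) hfrat,
      Subgroup.relIndex_mul_index hPX]
  -- middle factor
  have hDsylow : ∃ S : Sylow p K, (S : Subgroup K) = D.subgroupOf K := by
    have hpg : IsPGroup p (D.subgroupOf K) :=
      (P.isPGroup'.to_le inf_le_left).of_equiv (Subgroup.subgroupOfEquivOfLe inf_le_right).symm
    refine ⟨hpg.toSylow fun hd => ?_, rfl⟩
    have h2 : D.relIndex K ∣ Q.index := by
      obtain ⟨c, hc⟩ := Subgroup.relIndex_dvd_index_of_normal K Q
      have h1 := Subgroup.relIndex_mul_index (inf_le_right : Q ⊓ K ≤ K)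
      have h2 := Subgroup.relIndex_mul_index (inf_le_left : Q ⊓ K ≤ Q)
      rw [Subgroup.inf_relIndex_left, ← h1, hc] at h2
      refine ⟨c, ?_⟩
      have hpos : 0 < K.relIndex Q := Nat.pos_of_ne_zero Subgroup.index_ne_zero_of_finite
      apply Nat.eq_of_mul_eq_mul_left hpos
      rw [hD]; linarith
    exact P.not_dvd_index (hd.trans h2)
  have e3 : Nat.card (Sylow p K) = ND.relIndex K := by
    obtain ⟨S, hS⟩ := hDsylow
    rw [card_sylow_eq_index S, hS, Subgroup.relIndex, hND,
      Subgroup.subgroupOf_normalizer_eq inf_le_right]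
  have e4 : NP.relIndex X = (NP ⊓ X).relIndex N * ND.relIndex K := by
    have h1 : ND.relIndex K = N.relIndex X := by
      rw [hN, inf_comm, Subgroup.inf_relIndex_right]
      refine relIndex_eq_of_factor hKX fun m hm => ?_
      obtain ⟨a, ha, b, hb, rfl⟩ := Subgroup.mem_sup_of_normal_right.1 hm
      refine ⟨a * b * a⁻¹, hK.conj_mem b hb a, ?_⟩
      rw [show (a * b * a⁻¹)⁻¹ * (a * b) = a by group]
      exact hQND ha
    have h2 : NP ⊓ X ≤ N := by rw [hN]; exact le_inf inf_le_right (inf_le_left.trans hP_ND)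
    rw [h1, Subgroup.relIndex_mul_relIndex _ _ _ h2 (hN ▸ inf_le_left), Subgroup.inf_relIndex_right]
  -- last factor
  have hQN : Q ≤ N := hN ▸ le_inf hQX hQND
  have e5 : Nat.card (Sylow p (N ⧸ D.subgroupOf N)) = (NP ⊓ X).relIndex N := by
    rw [card_sylow_eq_index ((P.subtype hQN).mapSurjective (QuotientGroup.mk'_surjective _)),
      ← Subgroup.index_comap_of_surjective _ (QuotientGroup.mk'_surjective _),
      Subgroup.comap_normalizer_eq_of_surjective _ (QuotientGroup.mk'_surjective _)]
    have hker : (((P.subtype hQN).mapSurjective (QuotientGroup.mk'_surjective (D.subgroupOf N)) :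
        Sylow p _) : Subgroup _).comap (QuotientGroup.mk' (D.subgroupOf N)) = Q.subgroupOf N := by
      change (Subgroup.map _ (Q.subgroupOf N)).comap _ = _
      rw [Subgroup.comap_map_eq, QuotientGroup.ker_mk']
      exact sup_eq_left.2 (Subgroup.comap_mono inf_le_left)
    rw [hker, ← Subgroup.subgroupOf_normalizer_eq hQN, ← Subgroup.relIndex, ← hNP]
    rw [← Subgroup.inf_relIndex_right NP N, ← Subgroup.inf_relIndex_right (NP ⊓ X) N, inf_assoc,
      inf_eq_right.2 (show N ≤ X from hN ▸ inf_le_left)]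
  have e0 : Nat.card (Sylow p G) = NP.index := card_sylow_eq_index P
  rw [e0, e1, e2, e3, e5, e4]
  ring

/-- The error factor of the Sylow number formula has prime parts congruent to one. -/
theorem sylow_number_part_local (K : Subgroup G) [hK : K.Normal] (P : Sylow p G) (N : Subgroup G)
    (hN : N = ((P : Subgroup G) ⊔ K) ⊓
      Subgroup.normalizer (((P : Subgroup G) ⊓ K : Subgroup G) : Set G))
    [hn : (((P : Subgroup G) ⊓ K).subgroupOf N).Normal] (l : ℕ) (hl : l.Prime) :
    l ^ (Nat.card (Sylow p (N ⧸ ((P : Subgroup G) ⊓ K).subgroupOf N))).factorization l ≡ 1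
      [MOD p] := by
  set Q := (P : Subgroup G) with hQ
  set D := Q ⊓ K with hD
  set q := QuotientGroup.mk' (D.subgroupOf N) with hq
  have hQN : Q ≤ N := by
    rw [hN]
    refine le_inf le_sup_left fun x hx => Subgroup.mem_normalizer_iff.2 fun y => ?_
    exact and_congr (Subgroup.mem_normalizer_iff.1 (Subgroup.le_normalizer hx) y)
      ⟨fun h => hK.conj_mem y h x, fun h => by simpa [mul_assoc] using hK.conj_mem _ h x⁻¹⟩
  haveI : (K.subgroupOf N).Normal := Subgroup.normal_subgroupOf
  haveI : ((K.subgroupOf N).map q).Normal :=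
    Subgroup.Normal.map inferInstance q (QuotientGroup.mk'_surjective _)
  refine sylow_number_part_of_pPrime_normal ((P.subtype hQN).mapSurjective
    (QuotientGroup.mk'_surjective _)) ((K.subgroupOf N).map q) ?_ ?_ l hl
  · intro hd
    have h1 : Nat.card ((K.subgroupOf N).map q) =
        (D.subgroupOf N).relIndex (K.subgroupOf N) := by
      rw [← Subgroup.range_subtype (K.subgroupOf N), ← MonoidHom.range_comp, ← Subgroup.index_ker,
        Subgroup.range_subtype, Subgroup.relIndex, ← MonoidHom.comap_ker, hq, QuotientGroup.ker_mk']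
      rfl
    rw [h1, Subgroup.subgroupOf, Subgroup.relIndex_comap, Subgroup.subgroupOf_map_subtype] at hd
    have h3 : Q.relIndex (K ⊓ N) = D.relIndex (K ⊓ N) := by
      rw [hD, ← Subgroup.inf_relIndex_right Q, ← Subgroup.inf_relIndex_right (Q ⊓ K), inf_assoc,
        ← inf_assoc K K, inf_idem]
    have h4 : (Q.subgroupOf N).relIndex (K.subgroupOf N) = Q.relIndex (K ⊓ N) := by
      rw [show Q.subgroupOf N = Q.comap N.subtype from rfl, Subgroup.relIndex_comap,
        Subgroup.subgroupOf_map_subtype]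
    rw [← h3, ← h4] at hd
    have h5 : (Q.subgroupOf N).relIndex (K.subgroupOf N) ∣ (Q.subgroupOf N).index := by
      obtain ⟨c, hc⟩ := Subgroup.relIndex_dvd_index_of_normal (K.subgroupOf N) (Q.subgroupOf N)
      have h1 := Subgroup.relIndex_mul_index
        (inf_le_right : Q.subgroupOf N ⊓ K.subgroupOf N ≤ K.subgroupOf N)
      have h2 := Subgroup.relIndex_mul_index
        (inf_le_left : Q.subgroupOf N ⊓ K.subgroupOf N ≤ Q.subgroupOf N)
      rw [Subgroup.inf_relIndex_right] at h1
      rw [Subgroup.inf_relIndex_left, ← h1, hc] at h2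
      refine ⟨c, ?_⟩
      have hpos : 0 < (K.subgroupOf N).relIndex (Q.subgroupOf N) :=
        Nat.pos_of_ne_zero Subgroup.index_ne_zero_of_finite
      apply Nat.eq_of_mul_eq_mul_left hpos
      linarith
    exact P.not_dvd_index ((hd.trans h5).trans (Subgroup.relIndex_dvd_index_of_le hQN))
  · rw [eq_top_iff]
    intro w _
    obtain ⟨⟨z, hz⟩, rfl⟩ := QuotientGroup.mk'_surjective _ w
    have hzX : z ∈ Q ⊔ K := (hN ▸ hz : z ∈ (Q ⊔ K) ⊓ _).1
    obtain ⟨a, ha, b, hb, rfl⟩ := Subgroup.mem_sup_of_normal_right.1 hzX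
    have hbN : b ∈ N := by simpa using N.mul_mem (N.inv_mem (hQN ha)) hz
    rw [show (⟨a * b, hz⟩ : N) = (⟨a, hQN ha⟩ : N) * ⟨b, hbN⟩ from rfl, map_mul, sup_comm]
    exact Subgroup.mul_mem_sup ⟨⟨a, hQN ha⟩, ha, rfl⟩ ⟨⟨b, hbN⟩, hb, rfl⟩

end Cfsg.Agent.H90
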