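import Mathlib
import Cfsg.Prelude.Def_Solvable

set_option autoImplicit false
open Pointwise

namespace Cfsg.Agent.H90

variable {G : Type*} [Group G] {p : ℕ}

/-- The intersection of all Sylow `p`-subgroups lies in `O_p(G)`. -/
theorem iInf_sylow_le_pCore : (⨅ P : Sylow p G, (P : Subgroup G)) ≤ Cfsg.pCore p G := by
  apply le_sSup
  refine ⟨⟨fun n hn g => ?_⟩, ?_⟩
  · rw [Subgroup.mem_iInf] at hn ⊢
    intro P
    have h := hn (g⁻¹ • P)
    rw [Sylow.coe_subgroup_smul, Subgroup.mem_pointwise_smul_iff_inv_smul_mem] at h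
    simpa [MulAut.smul_def] using h
  · obtain ⟨P⟩ := Sylow.nonempty (p := p) (G := G)
    exact P.isPGroup'.to_le (iInf_le _ P)

/-- `O_p(G)` lies in every Sylow `p`-subgroup. -/
theorem pCore_le_sylow (P : Sylow p G) : Cfsg.pCore p G ≤ (P : Subgroup G) := by
  apply sSup_le
  rintro N ⟨hN, hNp⟩
  exact hNp.le_sylow_of_normal P

variable [Finite G] [Fact p.Prime]

/-- Brodkey: if the Sylow `p`-subgroups are abelian, two of them meet inside every other one. -/
theorem brodkey_exists (hab : ∀ P : Sylow p G, IsMulCommutative P) :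
    ∃ P Q : Sylow p G, (P : Subgroup G) ⊓ Q ≤ Cfsg.pCore p G := by
  obtain ⟨⟨P, Q⟩, hmin⟩ := Finite.exists_min
    (fun x : Sylow p G × Sylow p G => Nat.card ↥((x.1 : Subgroup G) ⊓ x.2))
  refine ⟨P, Q, le_trans (le_iInf fun R => ?_) iInf_sylow_le_pCore⟩
  set D := (P : Subgroup G) ⊓ Q with hD
  set C := Subgroup.centralizer (D : Set G) with hC
  have hle : ∀ S : Sylow p G, D ≤ S → (S : Subgroup G) ≤ C := by
    intro S hS x hx
    rw [hC, Subgroup.mem_centralizer_iff]
    intro d hd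
    have h' : Std.Commutative (α := ↥(S : Subgroup G)) (· * ·) := (hab S).is_comm
    exact congrArg Subtype.val (h'.comm ⟨d, hS hd⟩ ⟨x, hx⟩)
  have hP := hle P inf_le_left
  have hQ := hle Q inf_le_right
  obtain ⟨S, hS⟩ := (IsPGroup.to_le R.isPGroup' (inf_le_right : C ⊓ R ≤ R)).of_equiv
    (Subgroup.subgroupOfEquivOfLe (inf_le_left : C ⊓ R ≤ C)).symm |>.exists_le_sylow
  obtain ⟨c, hc⟩ := MulAction.exists_smul_eq C (P.subtype hP) S
  rw [Sylow.smul_subtype hP c] at hc
  -- `C ∩ R` lies in the conjugate `c • P`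
  have hCR : C ⊓ (R : Subgroup G) ≤ ((c • P : Sylow p G) : Subgroup G) := by
    intro x hx
    have := hS (show (⟨x, hx.1⟩ : C) ∈ (C ⊓ (R : Subgroup G)).subgroupOf C from hx)
    rw [← hc] at this
    exact this
  have hfix : ∀ d ∈ D, (c : G) * d * (c : G)⁻¹ = d := fun d hd => by
    have := Subgroup.mem_centralizer_iff.1 c.2 d hd
    rw [← this]; group
  have hQ' : ((c • Q : Sylow p G) : Subgroup G) ≤ C := Sylow.smul_le hQ c
  have hsub : ((R : Subgroup G)) ⊓ ((c • Q : Sylow p G) : Subgroup G) ≤ D := by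
    intro x hx
    have h1 : x ∈ ((c • P : Sylow p G) : Subgroup G) := hCR ⟨hQ' hx.2, hx.1⟩
    have h2 := hx.2
    change x ∈ MulAut.conj (c : G) • (P : Subgroup G) at h1
    change x ∈ MulAut.conj (c : G) • (Q : Subgroup G) at h2
    rw [Subgroup.mem_pointwise_smul_iff_inv_smul_mem] at h1 h2
    have h3 := hfix _ (show (MulAut.conj (c : G))⁻¹ • x ∈ D from ⟨h1, h2⟩)
    have h4 : (c : G) * ((MulAut.conj (c : G))⁻¹ • x) * (c : G)⁻¹ = x := by
      change MulAut.conj (c : G) • ((MulAut.conj (c : G))⁻¹ • x) = x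
      exact smul_inv_smul _ _
    rw [← h4, h3]
    exact ⟨h1, h2⟩
  have hm := hmin (R, c • Q)
  have := Subgroup.eq_of_le_of_card_ge hsub hm
  exact this ▸ inf_le_left

end Cfsg.Agent.H90
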