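import Mathlib

set_option autoImplicit false
open Pointwise

namespace Cfsg.Agent.H90

variable {G : Type*} [Group G] [Finite G] {p : ℕ} [Fact p.Prime]

/-- The number of Sylow subgroups does not drop modulo a subgroup normalizing all of them. -/
theorem card_sylow_eq_of_ker_le_normalizer {G' : Type*} [Group G'] {f : G →* G'}
    (hf : Function.Surjective f)
    (h : ∀ P : Sylow p G, f.ker ≤ Subgroup.normalizer (P : Set G)) :
    Nat.card (Sylow p G') = Nat.card (Sylow p G) := by
  refine (Nat.card_eq_of_bijective (Sylow.mapSurjective hf (p := p))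
    ⟨fun P Q hPQ => ?_, Sylow.mapSurjective_surjective hf p⟩).symm
  have hmap : (P : Subgroup G).map f = (Q : Subgroup G).map f := congrArg Sylow.toSubgroup hPQ
  have hle : (Q : Subgroup G) ≤ Subgroup.normalizer (P : Set G) := by
    refine le_trans (Subgroup.le_comap_map f _) ?_
    rw [← hmap, Subgroup.comap_map_eq]
    exact sup_le Subgroup.le_normalizer (h P)
  have := (Q.isPGroup'.inf_normalizer_sylow P)
  rw [inf_eq_left.2 hle] at this
  have h2 : (Q : Subgroup G) ≤ P := this ▸ inf_le_right
  exact Sylow.ext (Q.is_maximal' P.isPGroup' h2)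

/-- A `p'`-index normal subgroup has all the Sylow `p`-subgroups. -/
theorem card_sylow_normal_subgroup (H : Subgroup G) [H.Normal] (hp : ¬ p ∣ H.index) :
    Nat.card (Sylow p H) = Nat.card (Sylow p G) := by
  have hle : ∀ P : Sylow p G, (P : Subgroup G) ≤ H := by
    intro P
    have : H.relIndex P = 1 := by
      obtain ⟨k, hk⟩ := P.isPGroup'.index (H.subgroupOf P)
      rw [Subgroup.relIndex, hk]
      rcases k with _ | k
      · rfl
      · exfalso
        apply hp
        refine dvd_trans ?_ (Subgroup.relIndex_dvd_index_of_normal H (P : Subgroup G))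
        rw [Subgroup.relIndex, hk]
        exact dvd_pow_self p (Nat.succ_ne_zero k)
    exact Subgroup.relIndex_eq_one.1 this
  refine (Nat.card_eq_of_bijective (fun P : Sylow p G => P.subtype (hle P))
    ⟨fun P Q h => Sylow.subtype_injective h, fun S => ?_⟩).symm
  obtain ⟨Q, hQ⟩ := Sylow.exists_comap_subtype_eq S
  exact ⟨Q, Sylow.ext hQ⟩

end Cfsg.Agent.H90
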