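import Mathlib

/-! Elements of 2-power order of a symmetric group lying in a single Sylow 2-subgroup. -/

set_option autoImplicit false

namespace Cfsg.Agent.H90.UniqueTwo

open Equiv

/-- Nontrivial cycles have different lengths and at most two points are fixed. -/
def Good {α : Type*} (x : Perm α) : Prop :=
  (∀ a b, MulAction.period x a = MulAction.period x b → x a ≠ a → x.SameCycle a b) ∧
    ∀ a b c, x a = a → x b = b → x c = c → a = b ∨ a = c ∨ b = c

variable {α : Type*}

theorem zpow_apply_eq_iff (x : Perm α) (a : α) (i : ℤ) :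
    (x ^ i) a = a ↔ (MulAction.period x a : ℤ) ∣ i :=
  (MulAction.zpow_smul_eq_iff_period_dvd (g := x) (a := a) (j := i) :)

theorem fixed_iff_period_eq_one (x : Perm α) (a : α) : x a = a ↔ MulAction.period x a = 1 := by
  have h := zpow_apply_eq_iff x a 1
  rw [zpow_one] at h
  rw [h, ← Nat.cast_one, Int.natCast_dvd_natCast, Nat.dvd_one]

/-- A criterion for periods to agree. -/
theorem period_eq_of_iff (x : Perm α) {β : Type*} (z : Perm β) (a : α) (b : β)
    (h : ∀ i : ℤ, (x ^ i) a = a ↔ (z ^ i) b = b) : MulAction.period x a = MulAction.period z b := by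
  refine Nat.dvd_antisymm ?_ ?_
  · rw [← Int.natCast_dvd_natCast, ← zpow_apply_eq_iff, h, zpow_apply_eq_iff]
  · rw [← Int.natCast_dvd_natCast, ← zpow_apply_eq_iff, ← h, zpow_apply_eq_iff]

theorem exists_period_eq_two_pow [Finite α] {x : Perm α} (hx : ∃ k : ℕ, orderOf x = 2 ^ k) (a : α) :
    ∃ k : ℕ, MulAction.period x a = 2 ^ k := by
  obtain ⟨k, hk⟩ := hx
  obtain ⟨j, -, hj⟩ := (Nat.dvd_prime_pow Nat.prime_two).mp (hk ▸ MulAction.period_dvd_orderOf x a)
  exact ⟨j, hj⟩

variable [Finite α]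

/-- Points of period at most `2 ^ j`. -/
theorem ncard_period_le {x : Perm α} (hx : ∃ k : ℕ, orderOf x = 2 ^ k) (hG : Good x) :
    ∀ j : ℕ, {a : α | MulAction.period x a ≤ 2 ^ j}.ncard ≤ 2 ^ (j + 1) := by
  intro j
  induction j with
  | zero =>
    by_contra hc
    rw [not_le] at hc
    obtain ⟨a, b, c, ha, hb, hd, hab, hac, hbc⟩ := (Set.two_lt_ncard_iff (Set.toFinite _)).mp hc
    have hf : ∀ e, MulAction.period x e ≤ 2 ^ 0 → x e = e := fun e he => by
      rw [fixed_iff_period_eq_one]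
      obtain ⟨k, hk⟩ := exists_period_eq_two_pow hx e
      have := Nat.one_le_two_pow (n := k)
      rw [pow_zero] at he
      omega
    rcases hG.2 a b c (hf a ha) (hf b hb) (hf c hd) with e | e | e
    exacts [hab e, hac e, hbc e]
  | succ j ih =>
    have hsub : {a : α | MulAction.period x a ≤ 2 ^ (j + 1)} ⊆
        {a : α | MulAction.period x a ≤ 2 ^ j} ∪ {a : α | MulAction.period x a = 2 ^ (j + 1)} := by
      intro a ha
      obtain ⟨k, hk⟩ := exists_period_eq_two_pow hx a
      change MulAction.period x a ≤ _ at ha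
      rw [hk] at ha
      have hk1 := (Nat.pow_le_pow_iff_right one_lt_two).mp ha
      rcases Nat.lt_or_ge k (j + 1) with h | h
      · exact Or.inl (show MulAction.period x a ≤ 2 ^ j by
          rw [hk]; exact Nat.pow_le_pow_right (by norm_num) (by omega))
      · exact Or.inr (show MulAction.period x a = _ by rw [hk, le_antisymm hk1 h])
    have h2 : {a : α | MulAction.period x a = 2 ^ (j + 1)}.ncard ≤ 2 ^ (j + 1) := by
      rcases Set.eq_empty_or_nonempty {a : α | MulAction.period x a = 2 ^ (j + 1)} with e | ⟨a, ha⟩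
      · rw [e, Set.ncard_empty]; exact Nat.zero_le _
      change MulAction.period x a = _ at ha
      have hne : x a ≠ a := fun e => by
        rw [fixed_iff_period_eq_one, ha] at e
        exact (Nat.one_lt_two_pow (Nat.succ_ne_zero j)).ne' e
      have hsub' : {b : α | MulAction.period x b = 2 ^ (j + 1)} ⊆
          Set.range fun i : Fin (2 ^ (j + 1)) => (x ^ (i : ℕ)) a := by
        intro b hb
        obtain ⟨i, hi⟩ := hG.1 a b (ha.trans (Eq.symm hb)) hne
        have hpos : (0 : ℤ) < (2 ^ (j + 1) : ℕ) := by exact_mod_cast Nat.two_pow_pos _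
        refine ⟨⟨(i % (2 ^ (j + 1) : ℕ)).toNat, by
          have := Int.emod_lt_of_pos i hpos; have := Int.emod_nonneg i hpos.ne'; omega⟩, ?_⟩
        simp only
        rw [← hi, ← zpow_natCast, Int.toNat_of_nonneg (Int.emod_nonneg _ hpos.ne'), ← ha]
        exact MulAction.zpow_mod_period_smul (g := x) (a := a) i
      refine (Set.ncard_le_ncard hsub' (Set.toFinite _)).trans ?_
      rw [← Nat.card_coe_set_eq]
      exact (Finite.card_range_le _).trans_eq (Nat.card_fin _)
    calc _ ≤ _ := Set.ncard_le_ncard hsub (Set.toFinite _)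
      _ ≤ _ := Set.ncard_union_le _ _
      _ ≤ 2 ^ (j + 1) + 2 ^ (j + 1) := Nat.add_le_add ih h2
      _ = 2 ^ (j + 1 + 1) := by ring

/-- No three disjoint invariant subsets of equal size a power of two. -/
theorem not_three {x : Perm α} (hx : ∃ k : ℕ, orderOf x = 2 ^ k) (hG : Good x) {j : ℕ}
    {s t u : Set α} (hs : s.ncard = 2 ^ j) (ht : t.ncard = 2 ^ j) (hu : u.ncard = 2 ^ j)
    (his : ∀ a ∈ s, x a ∈ s) (hit : ∀ a ∈ t, x a ∈ t) (hiu : ∀ a ∈ u, x a ∈ u)
    (hst : Disjoint s t) (hsu : Disjoint s u) (htu : Disjoint t u) : False := by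
  have hle : ∀ v : Set α, v.ncard = 2 ^ j → (∀ a ∈ v, x a ∈ v) →
      v ⊆ {a : α | MulAction.period x a ≤ 2 ^ j} := by
    intro v hv hiv a ha
    change MulAction.period x a ≤ _
    rw [← hv, ← Nat.card_coe_set_eq]
    have hmem : ∀ i : ℕ, (x ^ i) a ∈ v := fun i => by
      induction i with
      | zero => simpa using ha
      | succ i ih => rw [pow_succ', Perm.mul_apply]; exact hiv _ ih
    refine le_of_eq_of_le (Nat.card_fin _).symm (Nat.card_le_card_of_injective
      (fun i : Fin (MulAction.period x a) => (⟨(x ^ (i : ℕ)) a, hmem i⟩ : v)) fun i i' e => ?_)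
    have e' := congrArg Subtype.val e
    simp only at e'
    have h1 : (x ^ ((i : ℤ) - (i' : ℕ))) a = a := by
      rw [sub_eq_neg_add, zpow_add, Perm.mul_apply, zpow_natCast, e', zpow_neg, zpow_natCast,
        Perm.inv_def, Equiv.symm_apply_apply]
    rw [zpow_apply_eq_iff] at h1
    obtain ⟨c, hc⟩ := h1
    have hi := i.2
    have hi' := i'.2
    have hc0 : c = 0 := by
      rcases lt_trichotomy c 0 with hlt | h0 | hgt
      · have : (MulAction.period x a : ℤ) * c ≤ (MulAction.period x a : ℤ) * (-1) :=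
          mul_le_mul_of_nonneg_left (by omega) (by omega)
        omega
      · exact h0
      · have : (MulAction.period x a : ℤ) * 1 ≤ (MulAction.period x a : ℤ) * c :=
          mul_le_mul_of_nonneg_left (by omega) (by omega)
        omega
    subst hc0
    exact Fin.ext (by omega)
  have h1 := Set.ncard_le_ncard (Set.union_subset (Set.union_subset (hle s hs his) (hle t ht hit))
    (hle u hu hiu)) (Set.toFinite _)
  rw [Set.ncard_union_eq (Set.disjoint_union_left.mpr ⟨hsu, htu⟩) (Set.toFinite _) (Set.toFinite _),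
    Set.ncard_union_eq hst (Set.toFinite _) (Set.toFinite _), hs, ht, hu] at h1
  have := ncard_period_le hx hG j
  rw [pow_succ] at this
  have := Nat.two_pow_pos j
  omega

omit [Finite α] in
theorem odd_order_trick {H : Type*} [Group H] {g : H} (hg : Odd (orderOf g)) {S : Subgroup H}
    (h2 : g ^ 2 ∈ S) : g ∈ S := by
  obtain ⟨m, hm⟩ := hg
  have : g = (g ^ 2) ^ (m + 1) := by
    rw [← pow_mul, show 2 * (m + 1) = orderOf g + 1 by omega, pow_succ, pow_orderOf_eq_one, one_mul]
  rw [this]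
  exact pow_mem h2 _

omit [Finite α] in
/-- No odd order element normalises a 2-subgroup containing a good element. -/
theorem eq_one_of_normalizes : ∀ (n : ℕ) (α : Type*) [Finite α], Nat.card α = n →
    ∀ (x g : Perm α) (D : Subgroup (Perm α)), Good x → IsPGroup 2 D → x ∈ D →
      g ∈ Subgroup.normalizer (D : Set (Perm α)) → Odd (orderOf g) → g = 1 := by
  intro n
  induction n using Nat.strong_induction_on with
  | _ n ih =>
  intro α _ hn x g D hG hD hxD hgD hodd
  classical
  have hxo : ∃ k : ℕ, orderOf x = 2 ^ k := by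
    obtain ⟨k, hk⟩ := IsPGroup.iff_orderOf.mp hD ⟨x, hxD⟩
    exact ⟨k, by rw [← hk]; exact Subgroup.orderOf_coe ⟨x, hxD⟩⟩
  haveI : Fact (Nat.Prime 2) := ⟨Nat.prime_two⟩
  rcases Nat.lt_or_ge n 3 with hsmall | hlarge
  · have hd : orderOf g ∣ 2 := by
      refine (orderOf_dvd_natCard g).trans ?_
      rw [Nat.card_perm, hn]
      exact Nat.factorial_dvd_factorial (by omega : n ≤ 2)
    rcases (Nat.dvd_prime Nat.prime_two).mp hd with e | e
    · exact orderOf_eq_one_iff.mp e
    · rw [e] at hodd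
      exact absurd hodd (by decide)
  let orb : α → Set α := fun a => MulAction.orbit D a
  have horbinv : ∀ a, ∀ b ∈ orb a, ∀ d ∈ D, d b ∈ orb a := by
    rintro a _ ⟨⟨e, he⟩, rfl⟩ d hd
    exact ⟨⟨d * e, mul_mem hd he⟩, rfl⟩
  have horbsymm : ∀ a b, b ∈ orb a → orb b = orb a := fun a b h => MulAction.orbit_eq_iff.mpr h
  have hgorb : ∀ a b, b ∈ orb a → g b ∈ orb (g a) := by
    rintro a _ ⟨⟨d, hd⟩, rfl⟩
    refine ⟨⟨g * d * g⁻¹, (Subgroup.mem_normalizer_iff.mp hgD d).mp hd⟩, ?_⟩
    change (g * d * g⁻¹) (g a) = g (d a)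
    simp
  have hgi : g⁻¹ ∈ Subgroup.normalizer (D : Set (Perm α)) := inv_mem hgD
  have hgcard : ∀ a, (orb (g a)).ncard = (orb a).ncard := by
    intro a
    have : g '' orb a = orb (g a) := by
      refine Set.Subset.antisymm (Set.image_subset_iff.mpr fun b hb => hgorb a b hb) ?_
      rintro _ ⟨⟨d, hd⟩, rfl⟩
      refine ⟨(g⁻¹ * d * g) a, ⟨⟨g⁻¹ * d * g, ?_⟩, rfl⟩, by simp⟩
      exact (Subgroup.mem_normalizer_iff''.mp hgD d).mp hd
    rw [← this, Set.ncard_image_of_injective _ g.injective]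
  -- `g` fixes every orbit
  have hfix : ∀ a, g a ∈ orb a := by
    intro a
    by_contra hne
    have hne' : orb (g a) ≠ orb a := fun e => hne (e ▸ MulAction.mem_orbit_self _)
    have hdis : ∀ b c, orb b ≠ orb c → Disjoint (orb b) (orb c) := fun b c h =>
      Set.disjoint_left.mpr fun d hb hc => h ((horbsymm b d hb).symm.trans (horbsymm c d hc))
    have h2 : orb (g (g a)) ≠ orb (g a) := by
      intro e
      apply hne
      obtain ⟨⟨d, hd⟩, hde⟩ : g (g a) ∈ orb (g a) := e ▸ MulAction.mem_orbit_self _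
      refine ⟨⟨g⁻¹ * d * g, (Subgroup.mem_normalizer_iff''.mp hgD d).mp hd⟩, ?_⟩
      change (g⁻¹ * d * g) a = g a
      change d (g a) = g (g a) at hde
      simp [hde]
    obtain ⟨j, hj⟩ : ∃ j, (orb a).ncard = 2 ^ j := by
      rw [← Nat.card_coe_set_eq]
      exact IsPGroup.card_orbit hD a
    refine not_three hxo hG hj ((hgcard a).trans hj) (((hgcard _).trans (hgcard a)).trans hj)
      (fun b hb => horbinv a b hb x hxD) (fun b hb => horbinv _ b hb x hxD)
      (fun b hb => horbinv _ b hb x hxD) (hdis _ _ (Ne.symm hne')) (hdis _ _ ?_) (hdis _ _ (Ne.symm h2))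
    intro e
    let S : Subgroup (Perm α) :=
      { carrier := {h | h ∈ Subgroup.normalizer (D : Set (Perm α)) ∧ h a ∈ orb a}
        one_mem' := ⟨one_mem _, MulAction.mem_orbit_self a⟩
        mul_mem' := fun {u v} hu hv => ⟨mul_mem hu.1 hv.1, by
          obtain ⟨⟨d, hd⟩, hde⟩ := hv.2
          change d a = v a at hde
          rw [Perm.mul_apply, ← hde, show u (d a) = (u * d * u⁻¹) (u a) by simp]
          exact horbinv a _ hu.2 _ ((Subgroup.mem_normalizer_iff.mp hu.1 d).mp hd)⟩
        inv_mem' := fun {u} hu => ⟨inv_mem hu.1, by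
          obtain ⟨⟨d, hd⟩, hde⟩ := hu.2
          change d a = u a at hde
          refine ⟨⟨u⁻¹ * d⁻¹ * u, (Subgroup.mem_normalizer_iff''.mp hu.1 _).mp (inv_mem hd)⟩, ?_⟩
          change (u⁻¹ * d⁻¹ * u) a = u⁻¹ a
          rw [Perm.mul_apply, Perm.mul_apply, ← hde, Perm.inv_def d, Equiv.symm_apply_apply]⟩ }
    have hg2 : g ^ 2 ∈ S := ⟨pow_mem hgD 2, by
      rw [pow_two, Perm.mul_apply, e]; exact MulAction.mem_orbit_self _⟩
    exact hne (odd_order_trick hodd hg2).2
  by_cases htr : ∀ a b, b ∈ orb a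
  swap
  · -- intransitive: restrict to the orbits
    refine Equiv.ext fun a => ?_
    have hlt : Nat.card (orb a) < n := by
      rw [← hn, Nat.card_coe_set_eq, ← Set.ncard_univ]
      refine Set.ncard_lt_ncard (Set.ssubset_univ_iff.mpr fun he => htr fun c d => ?_) (Set.toFinite _)
      rw [horbsymm a c (he ▸ Set.mem_univ c), he]
      exact Set.mem_univ d
    let L : Subgroup (Perm α) :=
      { carrier := {h | ∀ b, h b ∈ orb a ↔ b ∈ orb a}
        one_mem' := fun b => Iff.rfl
        mul_mem' := fun {u v} hu hv b => (hu (v b)).trans (hv b)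
        inv_mem' := fun {u} hu b => by simpa using (hu (u⁻¹ b)).symm }
    let res : L →* Perm (orb a) :=
      { toFun := fun h => (h : Perm α).subtypePerm h.2
        map_one' := rfl
        map_mul' := fun u v => rfl }
    have hDL : D ≤ L := fun d hd b => ⟨fun h => by
      simpa using horbinv a _ h d⁻¹ (inv_mem hd), fun h => horbinv a b h d hd⟩
    have hgL : g ∈ L := fun b => ⟨fun h => by
      rw [← horbsymm a _ h, horbsymm b (g b) (hfix b)]; exact MulAction.mem_orbit_self b,
      fun h => by rw [← horbsymm a b h]; exact hfix b⟩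
    have hper : ∀ b : orb a,
        MulAction.period (res ⟨x, hDL hxD⟩) b = MulAction.period x (b : α) := fun b => by
      refine period_eq_of_iff _ _ _ _ fun i => ?_
      rw [← map_zpow, Subtype.ext_iff]
      rfl
    have hGres : Good (res ⟨x, hDL hxD⟩) := by
      refine ⟨fun b c hbc hb => ?_, fun b c d hb hc hd => ?_⟩
      · obtain ⟨i, hi⟩ := hG.1 b c ((hper b).symm.trans (hbc.trans (hper c)))
          (fun e => hb (Subtype.ext e))
        refine ⟨i, Subtype.ext ?_⟩
        rw [← map_zpow]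
        exact hi
      · have := hG.2 b c d (congrArg Subtype.val hb) (congrArg Subtype.val hc) (congrArg Subtype.val hd)
        rwa [← Subtype.ext_iff, ← Subtype.ext_iff, ← Subtype.ext_iff] at this
    have h1 := ih _ hlt (orb a) rfl (res ⟨x, hDL hxD⟩) (res ⟨g, hgL⟩) ((D.subgroupOf L).map res) hGres
      ((hD.comap_subtype).map res) ⟨⟨x, hDL hxD⟩, hxD, rfl⟩
      (by
        refine Subgroup.le_normalizer_map res ⟨⟨g, hgL⟩, Subgroup.mem_normalizer_iff.mpr fun d => ?_, rfl⟩
        simp only [Subgroup.mem_subgroupOf, Subgroup.coe_mul, Subgroup.coe_inv]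
        exact Subgroup.mem_normalizer_iff.mp hgD d)
      (hodd.of_dvd_nat ((orderOf_map_dvd res _).trans (by rw [← Subgroup.orderOf_coe])))
    exact congrArg Subtype.val (Equiv.congr_fun h1 ⟨a, MulAction.mem_orbit_self a⟩)
  -- transitive: a central involution
  obtain ⟨a, hxa⟩ : ∃ a, x a ≠ a := by
    by_contra hc
    simp only [not_exists, not_not] at hc
    have h3 : 2 < (Set.univ : Set α).ncard := by rw [Set.ncard_univ, hn]; omega
    obtain ⟨a, b, c, -, -, -, hab, hac, hbc⟩ := (Set.two_lt_ncard_iff (Set.toFinite _)).mp h3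
    rcases hG.2 a b c (hc a) (hc b) (hc c) with e | e | e
    exacts [hab e, hac e, hbc e]
  have hDne : D ≠ ⊥ := fun e => hxa (by
    rw [e, Subgroup.mem_bot] at hxD; rw [hxD]; rfl)
  haveI := (Subgroup.nontrivial_iff_ne_bot D).mpr hDne
  haveI := hD.center_nontrivial
  obtain ⟨k0, hk0⟩ := IsPGroup.iff_card.mp (hD.to_subgroup (Subgroup.center D))
  obtain ⟨z, hz⟩ := exists_prime_orderOf_dvd_card' (G := Subgroup.center D) 2 (by
    rw [hk0]
    refine dvd_pow_self 2 fun e => ?_
    have := Finite.one_lt_card (α := Subgroup.center D)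
    rw [hk0, e] at this
    simp at this)
  set z' : Perm α := ((z : D) : Perm α) with hz'
  -- central involutions are given by `x` on a non-fixed point
  have hkey : ∀ w : Perm α, w ∈ D → w ≠ 1 → w * w = 1 → (∀ d ∈ D, d * w = w * d) →
      (∀ c, w c ≠ c) ∧ ∀ b, x b ≠ b → ∃ j : ℤ, w b = (x ^ j) b ∧
        (MulAction.period x b : ℤ) ∣ 2 * j ∧ ¬ (MulAction.period x b : ℤ) ∣ j := by
    intro w hw hw1 hw2 hwc
    have hfree : ∀ c, w c ≠ c := fun c hc => hw1 (Equiv.ext fun e => by
      obtain ⟨⟨d, hd⟩, rfl⟩ := htr c e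
      change w (d c) = d c
      rw [← Perm.mul_apply, ← hwc d hd, Perm.mul_apply, hc])
    refine ⟨hfree, fun b hb => ?_⟩
    have hcx : ∀ i : ℤ, x ^ i * w = w * x ^ i := fun i => ((show Commute x w from hwc x hxD).zpow_left i).eq
    have hper : MulAction.period x (w b) = MulAction.period x b := period_eq_of_iff _ _ _ _ fun i => by
      rw [← Perm.mul_apply, hcx, Perm.mul_apply, w.injective.eq_iff]
    obtain ⟨j, hj⟩ := hG.1 b (w b) hper.symm hb
    refine ⟨j, hj.symm, ?_, fun hd => hfree b ?_⟩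
    · rw [← zpow_apply_eq_iff, two_mul, zpow_add, Perm.mul_apply, hj, ← Perm.mul_apply, hcx,
        Perm.mul_apply, hj, ← Perm.mul_apply, hw2, Perm.one_apply]
    · rw [← hj]
      exact (zpow_apply_eq_iff x b j).mpr hd
  have htwo : ∀ b : α, ∀ i j : ℤ, (MulAction.period x b : ℤ) ∣ 2 * i → (MulAction.period x b : ℤ) ∣ 2 * j →
      ¬ (MulAction.period x b : ℤ) ∣ j →
      (MulAction.period x b : ℤ) ∣ i ∨ (MulAction.period x b : ℤ) ∣ (i - j) := by
    intro b i j hi hj hj'
    obtain ⟨k, hk⟩ := exists_period_eq_two_pow hxo b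
    rw [hk, Nat.cast_pow, Nat.cast_ofNat] at hi hj hj' ⊢
    rcases k with _ | k
    · exact absurd (by simp) hj'
    obtain ⟨u, hu⟩ := hi
    obtain ⟨v, hv⟩ := hj
    rw [pow_succ', mul_assoc] at hu hv
    have hu' : i = 2 ^ k * u := by linarith
    have hv' : j = 2 ^ k * v := by linarith
    rcases Int.even_or_odd u with ⟨s, hs⟩ | ⟨s, hs⟩
    · exact Or.inl ⟨s, by rw [hu', hs, pow_succ]; ring⟩
    · rcases Int.even_or_odd v with ⟨t, ht⟩ | ⟨t, ht⟩
      · exact absurd ⟨t, by rw [hv', ht, pow_succ]; ring⟩ hj'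
      · exact Or.inr ⟨s - t, by rw [hu', hv', hs, ht, pow_succ]; ring⟩
  have hzD : z' ∈ D := (z : D).2
  have hz1 : z' ≠ 1 := fun e => by
    rw [show z = 1 from Subtype.ext (Subtype.ext e), orderOf_one] at hz
    exact absurd hz (by norm_num)
  have hz2 : z' * z' = 1 := by
    have := congrArg (fun w : Subgroup.center D => ((w : D) : Perm α)) (pow_orderOf_eq_one z)
    simpa [hz, pow_two] using this
  have hzc : ∀ d ∈ D, d * z' = z' * d := fun d hd =>
    congrArg Subtype.val (Subgroup.mem_center_iff.mp z.2 ⟨d, hd⟩)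
  obtain ⟨hfree, hzx⟩ := hkey z' hzD hz1 hz2 hzc
  -- uniqueness
  have hgz : g * z' * g⁻¹ = z' := by
    have hw := (Subgroup.mem_normalizer_iff.mp hgD z').mp hzD
    have hw2 : g * z' * g⁻¹ * (g * z' * g⁻¹) = 1 := by
      rw [show g * z' * g⁻¹ * (g * z' * g⁻¹) = g * (z' * z') * g⁻¹ by group, hz2]; group
    have hwc : ∀ d ∈ D, d * (g * z' * g⁻¹) = g * z' * g⁻¹ * d := fun d hd => by
      have := hzc _ ((Subgroup.mem_normalizer_iff''.mp hgD d).mp hd)
      calc d * (g * z' * g⁻¹) = g * (g⁻¹ * d * g * z') * g⁻¹ := by group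
        _ = g * (z' * (g⁻¹ * d * g)) * g⁻¹ := by rw [this]
        _ = g * z' * g⁻¹ * d := by group
    obtain ⟨-, hwx⟩ := hkey _ hw (fun e => hz1 (by
      simpa [mul_assoc] using congrArg (fun w => g⁻¹ * w * g) e)) hw2 hwc
    obtain ⟨i, hi, hi2, hi'⟩ := hwx a hxa
    obtain ⟨j, hj, hj2, hj'⟩ := hzx a hxa
    have he : (x ^ i) a = (x ^ j) a := by
      have := ((htwo a i j hi2 hj2 hj').resolve_left hi')
      rw [← zpow_apply_eq_iff, sub_eq_neg_add, zpow_add, Perm.mul_apply, zpow_neg, Perm.inv_def,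
        Equiv.symm_apply_eq] at this
      exact this
    refine Equiv.ext fun e => ?_
    obtain ⟨⟨d, hd⟩, rfl⟩ := htr a e
    change (g * z' * g⁻¹) (d a) = z' (d a)
    rw [← Perm.mul_apply, ← hwc d hd, Perm.mul_apply, hi, he, ← hj, ← Perm.mul_apply, hzc d hd,
      Perm.mul_apply]
  -- act on the orbits of `z'`
  let β := Set.range fun b : α => s(b, z' b)
  have hzz : ∀ b, z' (z' b) = b := fun b => by rw [← Perm.mul_apply, hz2, Perm.one_apply]
  have hmk : ∀ b c : α, s(b, z' b) = s(c, z' c) ↔ b = c ∨ b = z' c := fun b c => by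
    rw [Sym2.eq_iff]
    constructor
    · rintro (⟨h, -⟩ | ⟨h, -⟩) <;> simp [h]
    · rintro (rfl | rfl)
      · exact Or.inl ⟨rfl, rfl⟩
      · exact Or.inr ⟨rfl, hzz c⟩
  let C := Subgroup.centralizer ({z'} : Set (Perm α))
  have hCb : ∀ h : C, ∀ P ∈ β, Sym2.map (h : Perm α) P ∈ β := by
    rintro h _ ⟨b, rfl⟩
    refine ⟨(h : Perm α) b, ?_⟩
    simp only [Sym2.map_mk]
    rw [← Perm.mul_apply, Subgroup.mem_centralizer_iff.mp h.2 z' rfl, Perm.mul_apply]
  letI : MulAction C β :=
    { smul := fun h P => ⟨Sym2.map (h : Perm α) (P : Sym2 α), hCb h P P.2⟩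
      one_smul := fun P => Subtype.ext (by
        change Sym2.map (id : α → α) (P : Sym2 α) = P
        rw [Sym2.map_id]; rfl)
      mul_smul := fun h k P => Subtype.ext (by
        change Sym2.map ((h : Perm α) * (k : Perm α)) (P : Sym2 α) =
          Sym2.map (h : Perm α) (Sym2.map (k : Perm α) (P : Sym2 α))
        rw [Sym2.map_map]; rfl) }
  let bar : C →* Perm β := MulAction.toPermHom C β
  have hbar : ∀ (h : C) (b : α),
      ((bar h ⟨s(b, z' b), b, rfl⟩ : β) : Sym2 α) = s((h : Perm α) b, z' ((h : Perm α) b)) := by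
    intro h b
    change Sym2.map (h : Perm α) s(b, z' b) = _
    rw [Sym2.map_mk, ← Perm.mul_apply (h : Perm α) z',
      ← Subgroup.mem_centralizer_iff.mp h.2 z' rfl, Perm.mul_apply]
  have hβ : Nat.card β < n := by
    rw [← hn]
    haveI := Fintype.ofFinite α
    haveI := Fintype.ofFinite β
    rw [Nat.card_eq_fintype_card, Nat.card_eq_fintype_card]
    refine Fintype.card_lt_of_surjective_not_injective (fun b : α => (⟨s(b, z' b), b, rfl⟩ : β))
      (fun ⟨_, b, hb⟩ => ⟨b, Subtype.ext hb⟩) fun hinj => hfree a ?_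
    exact (hinj (Subtype.ext ((hmk a (z' a)).mpr (Or.inr (hzz a).symm)))).symm
  have hDC : D ≤ C := fun d hd => Subgroup.mem_centralizer_iff.mpr fun w hw => by
    rw [Set.mem_singleton_iff.mp hw, hzc d hd]
  have hgC : g ∈ C := Subgroup.mem_centralizer_iff.mpr fun w hw => by
    rw [Set.mem_singleton_iff.mp hw]
    exact (mul_inv_eq_iff_eq_mul.mp hgz).symm
  have hiff : ∀ (b : α) (i : ℤ), ((bar ⟨x, hDC hxD⟩) ^ i) ⟨s(b, z' b), b, rfl⟩ = ⟨s(b, z' b), b, rfl⟩ ↔
      (x ^ i) b = b ∨ (x ^ i) b = z' b := fun b i => by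
    rw [← map_zpow, Subtype.ext_iff, hbar, hmk]
    rfl
  have hdouble : ∀ (b : α), x b ≠ b → ∀ i : ℤ, ((x ^ i) b = b ∨ (x ^ i) b = z' b) ↔
      (x ^ (2 * i)) b = b := by
    intro b hb i
    have hcx : x ^ i * z' = z' * x ^ i := ((show Commute x z' from hzc x hxD).zpow_left i).eq
    constructor
    · rintro (e | e)
      · rw [two_mul, zpow_add, Perm.mul_apply, e, e]
      · rw [two_mul, zpow_add, Perm.mul_apply, e, ← Perm.mul_apply, hcx, Perm.mul_apply, e, hzz]
    · intro e
      obtain ⟨j, hj, hj2, hj'⟩ := hzx b hb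
      rcases htwo b i j ((zpow_apply_eq_iff x b _).mp e) hj2 hj' with h | h
      · exact Or.inl ((zpow_apply_eq_iff x b i).mpr h)
      · right
        rw [← zpow_apply_eq_iff, sub_eq_neg_add, zpow_add, Perm.mul_apply, zpow_neg, Perm.inv_def,
          Equiv.symm_apply_eq] at h
        rw [h, hj]
  have hxb : ∀ b, bar ⟨x, hDC hxD⟩ ⟨s(b, z' b), b, rfl⟩ ≠ ⟨s(b, z' b), b, rfl⟩ → x b ≠ b := by
    intro b hb e
    refine hb ?_
    have := (hiff b 1).mpr (Or.inl (by rw [zpow_one]; exact e))
    rwa [zpow_one] at this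
  have hGbar : Good (bar ⟨x, hDC hxD⟩) := by
    refine ⟨?_, ?_⟩
    · rintro ⟨_, b, rfl⟩ ⟨_, c, rfl⟩ hbc hb
      have hb' := hxb b hb
      have hc' : x c ≠ c := by
        refine hxb c fun e => hb ?_
        rw [fixed_iff_period_eq_one] at e ⊢
        exact hbc.trans e
      have hsame : ∀ i : ℤ, (x ^ (2 * i)) b = b ↔ (x ^ (2 * i)) c = c := fun i => by
        rw [← hdouble b hb', ← hdouble c hc', ← hiff, ← hiff, zpow_apply_eq_iff, zpow_apply_eq_iff,
          hbc]
      have hper : MulAction.period x b = MulAction.period x c := by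
        refine period_eq_of_iff _ _ _ _ fun i => ?_
        rcases Int.even_or_odd i with ⟨l, rfl⟩ | ⟨l, rfl⟩
        · rw [← two_mul]; exact hsame l
        · have hnot : ∀ d, x d ≠ d → ¬ (x ^ (2 * l + 1)) d = d := by
            intro d hd e
            rw [zpow_apply_eq_iff] at e
            obtain ⟨k, hk⟩ := exists_period_eq_two_pow hxo d
            rcases k with _ | k
            · exact hd ((fixed_iff_period_eq_one x d).mpr hk)
            · rw [hk, Nat.cast_pow, Nat.cast_ofNat, pow_succ'] at e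
              obtain ⟨w, hw⟩ := e
              rw [mul_assoc] at hw
              generalize (2 : ℤ) ^ k * w = y at hw
              omega
          exact iff_of_false (hnot b hb') (hnot c hc')
      obtain ⟨i, hi⟩ := hG.1 b c hper hb'
      refine ⟨i, Subtype.ext ?_⟩
      rw [← map_zpow, hbar, hmk]
      exact Or.inl hi
    · rintro ⟨_, b, rfl⟩ ⟨_, c, rfl⟩ ⟨_, d, rfl⟩ hb hc hd
      by_contra hcon
      simp only [not_or] at hcon
      have hset : ∀ e, bar ⟨x, hDC hxD⟩ ⟨s(e, z' e), e, rfl⟩ = ⟨s(e, z' e), e, rfl⟩ →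
          ({e, z' e} : Set α).ncard = 2 ^ 1 ∧ ∀ f ∈ ({e, z' e} : Set α), x f ∈ ({e, z' e} : Set α) := by
        intro e he
        refine ⟨by rw [Set.ncard_pair (Ne.symm (hfree e))]; norm_num, ?_⟩
        have h1 : x e = e ∨ x e = z' e := by
          have := (hiff e 1).mp (by rwa [zpow_one])
          rwa [zpow_one] at this
        rintro f (rfl | rfl)
        · exact h1
        · rw [← Perm.mul_apply, hzc x hxD, Perm.mul_apply]
          rcases h1 with h1 | h1
          · exact Or.inr (congrArg z' h1)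
          · left
            rw [h1, hzz]
      have hd' : ∀ e f, (⟨s(e, z' e), e, rfl⟩ : β) ≠ ⟨s(f, z' f), f, rfl⟩ →
          Disjoint ({e, z' e} : Set α) {f, z' f} := by
        intro e f hef
        rw [Set.disjoint_left]
        rintro y (rfl | rfl) (h | h)
        · exact hef (Subtype.ext ((hmk _ _).mpr (Or.inl h)))
        · exact hef (Subtype.ext ((hmk _ _).mpr (Or.inr h)))
        · exact hef (Subtype.ext ((hmk _ _).mpr (Or.inr (by rw [← h, hzz]))))
        · exact hef (Subtype.ext ((hmk _ _).mpr (Or.inl (z'.injective h))))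
      exact not_three hxo hG (hset b hb).1 (hset c hc).1 (hset d hd).1 (hset b hb).2 (hset c hc).2
        (hset d hd).2 (hd' _ _ hcon.1) (hd' _ _ hcon.2.1) (hd' _ _ hcon.2.2)
  have h1 := ih _ hβ β rfl (bar ⟨x, hDC hxD⟩) (bar ⟨g, hgC⟩) ((D.subgroupOf C).map bar) hGbar
    ((hD.comap_subtype).map bar) ⟨⟨x, hDC hxD⟩, hxD, rfl⟩
    (by
      refine Subgroup.le_normalizer_map bar ⟨⟨g, hgC⟩, Subgroup.mem_normalizer_iff.mpr fun d => ?_, rfl⟩
      simp only [Subgroup.mem_subgroupOf, Subgroup.coe_mul, Subgroup.coe_inv]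
      exact Subgroup.mem_normalizer_iff.mp hgD d)
    (hodd.of_dvd_nat ((orderOf_map_dvd bar _).trans (by rw [← Subgroup.orderOf_coe])))
  refine Equiv.ext fun b => ?_
  have h2 : g ^ 2 ∈ MulAction.stabilizer (Perm α) b := by
    rw [MulAction.mem_stabilizer_iff]
    have hb : ∀ c, g c = c ∨ g c = z' c := fun c => by
      have := congrArg Subtype.val (Equiv.congr_fun h1 ⟨s(c, z' c), c, rfl⟩)
      rw [hbar] at this
      exact (hmk _ _).mp this
    change (g ^ 2) b = b
    rw [pow_two, Perm.mul_apply]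
    rcases hb b with e | e
    · rw [e, e]
    · rw [e, ← Perm.mul_apply, (mul_inv_eq_iff_eq_mul.mp hgz), Perm.mul_apply, e, hzz]
  exact odd_order_trick hodd h2

omit [Finite α] in
/-- Two transpositions with a common point pattern. -/
theorem swap_mem_pgroup {x : Perm α} [DecidableEq α] (hx : ∃ k : ℕ, orderOf x = 2 ^ k) {a b : α}
    (hper : MulAction.period x a = MulAction.period x b) (hns : ¬ x.SameCycle a b) :
    ∃ U : Subgroup (Perm α), IsPGroup 2 U ∧ x ∈ U ∧ Equiv.swap a b ∈ U := by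
  haveI : Fact (Nat.Prime 2) := ⟨Nat.prime_two⟩
  set gen := Set.range fun i : ℤ => Equiv.swap ((x ^ i) a) ((x ^ i) b)
  have hab : ∀ i j : ℤ, (x ^ i) a ≠ (x ^ j) b := fun i j e => hns ⟨-j + i, by
    rw [zpow_add, Perm.mul_apply, e, ← Perm.mul_apply, ← zpow_add, neg_add_cancel, zpow_zero,
      Perm.one_apply]⟩
  have heq : ∀ i j : ℤ, (x ^ i) a = (x ^ j) a ↔ (x ^ i) b = (x ^ j) b := by
    intro i j
    have key : ∀ c, (x ^ i) c = (x ^ j) c ↔ (MulAction.period x c : ℤ) ∣ (i - j) := fun c => by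
      rw [← zpow_apply_eq_iff, sub_eq_neg_add, zpow_add, Perm.mul_apply, zpow_neg, Perm.inv_def,
        Equiv.symm_apply_eq]
    rw [key, key, hper]
  have hcomm : ∀ u ∈ gen, ∀ v ∈ gen, u * v = v * u := by
    rintro _ ⟨i, rfl⟩ _ ⟨j, rfl⟩
    by_cases hij : (x ^ i) a = (x ^ j) a
    · simp only [hij, (heq i j).mp hij]
    · refine (Equiv.Perm.Disjoint.commute ?_).eq
      intro c
      have hij' : (x ^ i) b ≠ (x ^ j) b := fun e => hij ((heq i j).mpr e)
      by_cases h1 : c = (x ^ i) a
      · subst h1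
        exact Or.inr (Equiv.swap_apply_of_ne_of_ne hij (hab i j))
      by_cases h2 : c = (x ^ i) b
      · subst h2
        exact Or.inr (Equiv.swap_apply_of_ne_of_ne (Ne.symm (hab j i)) hij')
      exact Or.inl (Equiv.swap_apply_of_ne_of_ne h1 h2)
  set T := Subgroup.closure gen
  haveI : IsMulCommutative T := Subgroup.isMulCommutative_closure hcomm
  have hT : IsPGroup 2 T := by
    intro t
    refine ⟨1, Subtype.ext ?_⟩
    rw [pow_one, SubmonoidClass.coe_pow, Subgroup.coe_one, pow_two]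
    refine Subgroup.closure_induction (p := fun u _ => u * u = 1) ?_ ?_ ?_ ?_ t.2
    · rintro _ ⟨i, rfl⟩
      exact Equiv.swap_mul_self _ _
    · exact one_mul 1
    · intro u v hu hv ihu ihv
      have hc : Commute u v := congrArg Subtype.val (IsMulCommutative.is_comm.comm (⟨u, hu⟩ : T) ⟨v, hv⟩)
      rw [hc.symm.mul_mul_mul_comm, ihu, ihv, one_mul]
    · intro u _ ihu
      rw [← mul_inv_rev, ihu, inv_one]
  have hnorm : Subgroup.zpowers x ≤ Subgroup.normalizer (T : Set (Perm α)) := by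
    rw [Subgroup.le_normalizer_iff]
    intro y hy t ht
    obtain ⟨k, rfl⟩ := Subgroup.mem_zpowers_iff.mp hy
    have hle : T ≤ T.comap (MulAut.conj (x ^ k)).toMonoidHom := by
      rw [Subgroup.closure_le]
      rintro _ ⟨i, rfl⟩
      refine Subgroup.subset_closure ⟨k + i, ?_⟩
      change _ = x ^ k * Equiv.swap _ _ * (x ^ k)⁻¹
      rw [← Equiv.swap_apply_apply]
      simp only [zpow_add, Equiv.Perm.mul_apply]
    exact hle ht
  obtain ⟨k, hk⟩ := hx
  exact ⟨T ⊔ Subgroup.zpowers x, hT.to_sup_of_normal_left'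
    (IsPGroup.of_card (n := k) (by rw [Nat.card_zpowers, hk])) hnorm,
    Subgroup.mem_sup_right (Subgroup.mem_zpowers x),
    Subgroup.mem_sup_left (Subgroup.subset_closure ⟨0, by simp⟩)⟩

/-- The criterion. -/
theorem existsUnique_sylow_iff {x : Perm α} (hx : ∃ k : ℕ, orderOf x = 2 ^ k) :
    (∃! P : Sylow 2 (Perm α), x ∈ P) ↔ Good x := by
  classical
  haveI : Fact (Nat.Prime 2) := ⟨Nat.prime_two⟩
  constructor
  · rintro ⟨P, hxP, huniq⟩
    have hswap : ∀ a b, MulAction.period x a = MulAction.period x b → ¬ x.SameCycle a b →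
        Equiv.swap a b ∈ P := by
      intro a b h1 h2
      obtain ⟨U, hU, hxU, hsU⟩ := swap_mem_pgroup hx h1 h2
      obtain ⟨P', hP'⟩ := hU.exists_le_sylow
      rw [← huniq P' (hP' hxU)]
      exact hP' hsU
    have hno : ∀ a b c : α, a ≠ b → a ≠ c → b ≠ c → Equiv.swap a b ∈ P → Equiv.swap a c ∈ P → False := by
      intro a b c hab hac hbc h1 h2
      obtain ⟨k, hk⟩ := IsPGroup.iff_orderOf.mp P.isPGroup' ⟨_, mul_mem h1 h2⟩
      rw [← Subgroup.orderOf_coe] at hk
      have hfin : Fintype α := Fintype.ofFinite α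
      have h3 : orderOf (Equiv.swap a b * Equiv.swap a c) = 3 :=
        (Equiv.Perm.isThreeCycle_swap_mul_swap_same hab hac hbc).orderOf
      have h2k : (3 : ℕ) ∣ 2 ^ k := ⟨1, by rw [mul_one, ← h3, ← hk]⟩
      have := Nat.prime_three.dvd_of_dvd_pow h2k
      omega
    refine ⟨fun a b hab ha => ?_, fun a b c ha hb hc => ?_⟩
    · by_contra hns
      have hb : x b ≠ b := fun e => ha (by
        rw [fixed_iff_period_eq_one] at e ⊢; rw [hab]; exact e)
      have h1 := hswap a b hab hns
      have h2 := hswap a (x b) (hab.trans (period_eq_of_iff _ _ _ _ fun i => by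
        rw [← Perm.mul_apply, ((Commute.refl x).zpow_left i).eq, Perm.mul_apply, x.injective.eq_iff]))
        (fun h => hns (h.trans ⟨-1, by simp⟩))
      refine hno a b (x b) (fun e => hns (e ▸ Equiv.Perm.SameCycle.refl _ _)) (fun e => hns ?_)
        (Ne.symm hb) h1 h2
      exact ⟨-1, by rw [e]; simp⟩
    · by_contra hcon
      simp only [not_or] at hcon
      have hns : ∀ u v, x u = u → u ≠ v → ¬ x.SameCycle u v := fun u v hu huv ⟨i, hi⟩ => huv (by
        rw [← hi]; exact ((zpow_apply_eq_iff x u i).mpr (by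
          rw [(fixed_iff_period_eq_one x u).mp hu]; simp)).symm)
      have hp : ∀ u v, x u = u → x v = v → MulAction.period x u = MulAction.period x v :=
        fun u v hu hv => ((fixed_iff_period_eq_one x u).mp hu).trans
          ((fixed_iff_period_eq_one x v).mp hv).symm
      exact hno a b c hcon.1 hcon.2.1 hcon.2.2 (hswap a b (hp a b ha hb) (hns a b ha hcon.1))
        (hswap a c (hp a c ha hc) (hns a c ha hcon.2.1))
  · intro hG
    obtain ⟨k, hk⟩ := hx
    obtain ⟨P, hP⟩ := (IsPGroup.of_card (p := 2) (n := k)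
      (show Nat.card (Subgroup.zpowers x) = 2 ^ k by rw [Nat.card_zpowers, hk])).exists_le_sylow
    refine ⟨P, hP (Subgroup.mem_zpowers x), fun Q hQ => ?_⟩
    by_contra hne
    -- a maximal intersection containing `x`
    let S : Set (Subgroup (Perm α)) := {D | ∃ A B : Sylow 2 (Perm α), A ≠ B ∧ x ∈ D ∧
      D = (A : Subgroup (Perm α)) ⊓ B}
    obtain ⟨D, ⟨A, B, hAB, hxD, hD⟩, hmax⟩ :=
      (Set.toFinite S).exists_maximal ⟨_, Q, P, hne, Subgroup.mem_inf.mpr ⟨hQ, hP (Subgroup.mem_zpowers x)⟩, rfl⟩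
    have hD2 : IsPGroup 2 D := A.isPGroup'.to_le (hD.le.trans inf_le_left)
    set N := Subgroup.normalizer (D : Set (Perm α))
    have hN : IsPGroup 2 N := by
      intro g
      obtain ⟨e, m, hm, hem⟩ := Nat.exists_eq_two_pow_mul_odd (n := orderOf (g : Perm α))
        (orderOf_pos _).ne'
      refine ⟨e, Subtype.ext ?_⟩
      rw [SubmonoidClass.coe_pow, Subgroup.coe_one]
      refine eq_one_of_normalizes _ α rfl x _ D hG hD2 hxD (pow_mem g.2 _) ?_
      rw [orderOf_pow_of_dvd (Nat.two_pow_pos e).ne' ⟨m, hem⟩, hem, Nat.mul_div_cancel_left _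
        (Nat.two_pow_pos e)]
      exact hm
    obtain ⟨R, hR⟩ := hN.exists_le_sylow
    have key : ∀ A' : Sylow 2 (Perm α), D < (A' : Subgroup (Perm α)) → A' = R := by
      intro A' hlt
      by_contra hne'
      haveI := A'.isPGroup'.isNilpotent
      have hd : D.subgroupOf A' < ⊤ := lt_top_iff_ne_top.mpr fun e =>
        hlt.not_ge (Subgroup.subgroupOf_eq_top.mp e)
      obtain ⟨y, hyN, hyD⟩ := SetLike.exists_of_lt
        ((normalizerCondition_of_isNilpotent (G := A')) _ hd)
      have hyN' : (y : Perm α) ∈ N := Subgroup.mem_normalizer_iff.mpr fun d => by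
        by_cases hdA : d ∈ (A' : Subgroup (Perm α))
        · have := Subgroup.mem_normalizer_iff.mp hyN ⟨d, hdA⟩
          simpa [Subgroup.mem_subgroupOf] using this
        · refine iff_of_false (fun h => hdA (hlt.le h)) fun h => hdA ?_
          have := mul_mem (mul_mem (inv_mem y.2) (hlt.le h)) y.2
          simpa [mul_assoc] using this
      have hle : D ≤ (A' : Subgroup (Perm α)) ⊓ R :=
        le_inf hlt.le (Subgroup.le_normalizer.trans hR)
      exact hyD (Subgroup.mem_subgroupOf.mpr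
        (hmax ⟨A', R, hne', hle hxD, rfl⟩ hle ⟨y.2, hR hyN'⟩))
    have hlt : ∀ X Y : Sylow 2 (Perm α), X ≠ Y → D ≤ (X : Subgroup (Perm α)) → D ≤ Y →
        D < (X : Subgroup (Perm α)) := fun X Y hXY hX hY => hX.lt_of_ne fun e =>
      hXY (Sylow.ext (X.is_maximal' Y.isPGroup' (e ▸ hY)).symm)
    exact hAB ((key A (hlt A B hAB (hD.le.trans inf_le_left) (hD.le.trans inf_le_right))).trans
      (key B (hlt B A (Ne.symm hAB) (hD.le.trans inf_le_right) (hD.le.trans inf_le_left))).symm)

omit [Finite α] in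
/-- The criterion in terms of the cycle type. -/
theorem good_iff [Fintype α] [DecidableEq α] (x : Perm α) :
    Good x ↔ Fintype.card α ≤ x.support.card + 2 ∧ x.cycleType.Nodup := by
  have hper : ∀ a, x a ≠ a → MulAction.period x a = (x.cycleOf a).support.card := by
    intro a ha
    have hc := Equiv.Perm.isCycle_cycleOf x ha
    refine Nat.dvd_antisymm ?_ ?_
    · rw [← Int.natCast_dvd_natCast, ← zpow_apply_eq_iff, zpow_natCast, ← hc.orderOf,
        ← Equiv.Perm.cycleOf_pow_apply_self, pow_orderOf_eq_one]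
      rfl
    · rw [← hc.orderOf]
      refine orderOf_dvd_of_pow_eq_one ((hc.pow_eq_one_iff' (x := a) ?_).mpr ?_)
      · rwa [Equiv.Perm.cycleOf_apply_self]
      · rw [Equiv.Perm.cycleOf_pow_apply_self]
        exact MulAction.pow_period_smul x a
  have hfix : (∀ a b c, x a = a → x b = b → x c = c → a = b ∨ a = c ∨ b = c) ↔
      Fintype.card α ≤ x.support.card + 2 := by
    have h1 : (x.supportᶜ).card + x.support.card = Fintype.card α := Finset.card_compl_add_card _
    have hmem : ∀ a, a ∈ x.supportᶜ ↔ x a = a := fun a => by simp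
    constructor
    · intro h
      by_contra hlt
      obtain ⟨a, b, c, ha, hb, hc, hab, hac, hbc⟩ :=
        Finset.two_lt_card_iff.mp (show 2 < (x.supportᶜ).card by omega)
      rcases h a b c ((hmem a).mp ha) ((hmem b).mp hb) ((hmem c).mp hc) with e | e | e
      exacts [hab e, hac e, hbc e]
    · intro h a b c ha hb hc
      by_contra hcon
      simp only [not_or] at hcon
      have := Finset.two_lt_card_iff.mpr
        ⟨a, b, c, (hmem a).mpr ha, (hmem b).mpr hb, (hmem c).mpr hc, hcon.1, hcon.2.1, hcon.2.2⟩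
      omega
  rw [Good, hfix, and_comm, Equiv.Perm.cycleType_def,
    Multiset.nodup_map_iff_inj_on x.cycleFactorsFinset.nodup]
  refine and_congr_right fun _ => ⟨fun h c hc d hd hcd => ?_, fun h a b hab ha => ?_⟩
  · obtain ⟨a, ha⟩ := (Equiv.Perm.mem_cycleFactorsFinset_iff.mp hc).1.nonempty_support
    obtain ⟨b, hb⟩ := (Equiv.Perm.mem_cycleFactorsFinset_iff.mp hd).1.nonempty_support
    have hca := Equiv.Perm.cycle_is_cycleOf ha hc
    have hdb := Equiv.Perm.cycle_is_cycleOf hb hd
    have hxa : x a ≠ a :=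
      Equiv.Perm.mem_support.mp (Equiv.Perm.mem_cycleFactorsFinset_support_le hc ha)
    have hxb : x b ≠ b :=
      Equiv.Perm.mem_support.mp (Equiv.Perm.mem_cycleFactorsFinset_support_le hd hb)
    rw [hca, hdb]
    refine (h a b ?_ hxa).cycleOf_eq
    rw [hper a hxa, hper b hxb, ← hca, ← hdb]
    exact hcd
  · have hb : x b ≠ b := fun e => ha (by
      rw [fixed_iff_period_eq_one] at e ⊢; rw [hab]; exact e)
    have hm : ∀ c, x c ≠ c → x.cycleOf c ∈ x.cycleFactorsFinset := fun c hc =>
      Equiv.Perm.cycleOf_mem_cycleFactorsFinset_iff.mpr (Equiv.Perm.mem_support.mpr hc)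
    have he := h _ (hm a ha) _ (hm b hb) (by
      simp only [Function.comp_apply]
      rw [← hper a ha, ← hper b hb, hab])
    have hb' : b ∈ (x.cycleOf a).support := by
      rw [he]
      exact Equiv.Perm.mem_support_cycleOf_iff.mpr
        ⟨Equiv.Perm.SameCycle.refl x b, Equiv.Perm.mem_support.mpr hb⟩
    exact (Equiv.Perm.mem_support_cycleOf_iff.mp hb').1

end Cfsg.Agent.H90.UniqueTwo
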